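import Cfsg.Agent.Lib.ChevStructure.Fast
import Cfsg.Prelude.Def_ChevD4

/-! Packed copy of the tables of type D4 (generated), used only to make the kernel checks cheap. -/

set_option autoImplicit false
set_option maxRecDepth 100000
set_option linter.style.longLine false

namespace Cfsg.Agent.Lib.ChevStructure.Data.D4

/-- packed rows of structure constants -/
def row (r : ℕ) : ℕ :=
  cond (Nat.blt r 12)
  (cond (Nat.blt r 6)
   (cond (Nat.blt r 3)
    (cond (Nat.blt r 1)
     (0x4b04503d03300002501b01300d000000000000000000000000000000000000000000)
     (cond (Nat.blt r 2)
      (0x7300005b05300003302d00000000001d015000000005000000000000000000000000000)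
      (0x7d06300000005303b00002d00000002500000d000000003000000000000000000000000)))
    (cond (Nat.blt r 4)
     (0x8506b00000005b04300000002d00000002500000d000000003000000000000000000000)
     (cond (Nat.blt r 5)
      (0x8b00006b06300004b00000000002d00000001d015000000000005000000000000000000)
      (0x8b08307b07300000000000000000000000000002501d01500d000000000000000000))))
   (cond (Nat.blt r 9)
    (cond (Nat.blt r 7)
     (0x9d09500000000000000005b05300004503d00000000000000000000b003000000000000)
     (cond (Nat.blt r 8)
      (0xa300009500000000006300000005304d000035000000000000000013000005000000000)
      (0xab00000009500000006b00000005b00004d00003500000000000001b000000005000000)))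
    (cond (Nat.blt r 10)
     (0xb500000000009500000006b06300000000004503d000000000000023000000000003000)
     (cond (Nat.blt r 11)
      (0xa509d00000000007d07500000000000000000003b03300000000001300b000000000)
      (0xad00009d00000008500007500000000000000004300003300000001b00000b000000)))))
  (cond (Nat.blt r 18)
   (cond (Nat.blt r 15)
    (cond (Nat.blt r 13)
     (0xb50000a500000008d00007d00000000000000004b00003b000000023000013000)
     (cond (Nat.blt r 14)
      (0xb50ad00000000008d08500000000000000000004b04300000000002301b000)
      (0xbd00000000009d00000000000008307b00000000005d05500000002b00000000000b)))
    (cond (Nat.blt r 16)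
     (0xbb0000000a500000000000008b00007300006500000005500000002b000000015)
     (cond (Nat.blt r 17)
      (0xbb0000ad00000000000000008b00007306d00000005d00000000002b00001d)
      (0xbd0b500000000000000000008307b00006d06500000000000000002b023))))
   (cond (Nat.blt r 21)
    (cond (Nat.blt r 19)
     (0xb30ab0a309b00000000000000000000000000004d04503d035000)
     (cond (Nat.blt r 20)
      (0xbb0000000000ab0a300000009300000000007500005d055000035)
      (0xbd0000000b300009b00000009300000007d06500000005503b)))
    (cond (Nat.blt r 22)
     (0xbd0000000b300009b00000009300008506d00000005d043)
     (cond (Nat.blt r 23)
      (0xbb0000000ab0a300000000009308d00006d06500004d)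
      (0xb30ad0a509b00008d08307b075000)))))

/-- packed data -/
def fast : Fast where
  l := 4
  n := 24
  half := 12
  row := row
  pT := 0xc0d0e12
  vT := 0x9090a090909090908090909090809090808090908080809090909080809090809080908080809080809080809080808070808080807080808080708070807080807070807070708080808070808070707080707080707070707070707070607
  cT := 0x99a999998999989988998889999889989898889889889888788887888878787887787778888788777877877777777767
  aT := 0x89797897978a6897978979788997789977a8869977899778978897899a7799677897889789999a777788889999677778
  wT := 0x170ac58271409042220e87834170c85020130603c1406048080a00170a44e2c150903e1d110802a180b06c1c0c098441404010240e00168b8542812898441a0c04c421f0883c3a160a030100b03010000317088401e0e02c5a2b1489c34180b05012070280c4a12080381800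
  parT := 0x2101b01201300900002301a01b01002102102902901802302202b00801101b01a023029
  top := [(23, 0xb00a01300000801301201b00000000b00a00000b00a01300800801301201b000, [23, 22, 18, 13, 12, 9])]
  parTop := 0x901301201b02101001b01a02302102102b02a02903103203a02803003803a042049

end Cfsg.Agent.Lib.ChevStructure.Data.D4
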