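import Cfsg.Agent.Lib.ChevStructure.Fast
import Cfsg.Prelude.Def_ChevB2

/-! Packed copy of the tables of type B2 (generated), used only to make the kernel checks cheap. -/

set_option autoImplicit false
set_option maxRecDepth 100000
set_option linter.style.longLine false

namespace Cfsg.Agent.Lib.ChevStructure.Data.B2

/-- packed rows of structure constants -/
def row (r : ℕ) : ℕ :=
  cond (Nat.blt r 4)
  (cond (Nat.blt r 2)
   (cond (Nat.blt r 1)
    (0x1300d000000000000000)
    (0x2b00001a015000006000000))
   (cond (Nat.blt r 3)
    (0x3502200000000d000002000)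
    (0x2d00000000000b000000)))
  (cond (Nat.blt r 6)
   (cond (Nat.blt r 5)
    (0x35000000000013000)
    (0x3e00003300000001e00b))
   (cond (Nat.blt r 7)
    (0x3a00002b026000015)
    (0x3302d000)))

/-- packed data -/
def fast : Fast where
  l := 2
  n := 8
  half := 4
  row := row
  pT := 0x405
  vT := 0x90a0909080909080708080707070706
  cT := 0x99a9899878876777
  aT := 0x897a6978a8a6a686
  wT := 0x702c1807048080a00048340a0f0082c0607
  parT := 0x8009000000009008011010
  top := [(7, 0x9000009000009000, [7, 6, 4, 2]), (6, 0x8000008000008, [7, 6, 5, 3])]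
  parTop := 0x9008011010019018

end Cfsg.Agent.Lib.ChevStructure.Data.B2
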