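import Cfsg.Agent.Lib.ChevStructure.Fast
import Cfsg.Prelude.Def_ChevG2

/-! Packed copy of the tables of type G2 (generated), used only to make the kernel checks cheap. -/

set_option autoImplicit false
set_option maxRecDepth 100000
set_option linter.style.longLine false

namespace Cfsg.Agent.Lib.ChevStructure.Data.G2

/-- packed rows of structure constants -/
def row (r : ℕ) : ℕ :=
  cond (Nat.blt r 6)
  (cond (Nat.blt r 3)
   (cond (Nat.blt r 1)
    (0x2b01b01500000d000000000000000000)
    (cond (Nat.blt r 2)
     (0x33000023000015000005000000000000000)
     (0x4303b00002601a00000000f007000000000)))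
   (cond (Nat.blt r 4)
    (0x4d00003e000029025000012000001000000)
    (cond (Nat.blt r 5)
     (0x4d04203100000001d000016009000000)
     (0x5500000003d00000000001b000000003000))))
  (cond (Nat.blt r 9)
   (cond (Nat.blt r 7)
    (0x5d00000004500000000002300000000b)
    (cond (Nat.blt r 8)
     (0x5704a00004300000002f01e013000)
     (0x5f00004e00003b037000022000013)))
   (cond (Nat.blt r 10)
    (0x5905100000004603a00002501d)
    (cond (Nat.blt r 11)
     (0x5b00004b00003d00002d)
     (0x5300004b045035000))))

/-- packed data -/
def fast : Fast where
  l := 2
  n := 12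
  half := 6
  row := row
  pT := 0x607
  vT := 0xa0b090b090a090908090908070808070707070607050605
  cT := 0xa999bab98998788757567767
  aT := 0x97897a6978978b97a5b69758
  wT := 0xa858240f0802c1a060481000030b034221204850040f0201c1600
  parT := 0x11008010009000000009008011018010019
  top := [(11, 0x8000008000008000008008000, [11, 10, 9, 7, 5, 3]), (9, 0x9000000009000009000009000000009, [11, 9, 8, 6, 4, 1])]
  parTop := 0x9000008011010019018021028020029

end Cfsg.Agent.Lib.ChevStructure.Data.G2
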